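import Cfsg.Agent.H904.GT.Frame

/-!
# S5211, the long root parabolic, `p` odd: comparison with the Weyl element (helper904)

`κ = g w⁻¹` with `g ∈ Γ`, `w` the Weyl element, both with the same image on `Q_b / Z₃`, commutes with the torus modulo `Inn(Q_b)`.
-/

set_option autoImplicit false
set_option linter.unusedSectionVars false

namespace Cfsg.Agent.H904.GT

open Matrix Cfsg Cfsg.FusionSystem Cfsg.Agent.H756.PU Cfsg.Agent.H7.PU.Core Cfsg.Agent.H779.G2
open Cfsg.Agent.H802 (exists_conjAut mem_autInducedBy_iff)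

universe u

variable {K : Type u} [Field K] {p n : ℕ}

/-- the restriction of `tor(s, t)` to `Q_b` -/
structure IsTb (δ : MulAut (Qb K)) (s t : K) : Prop where
  a : ∀ g : Qb K, ((δ g : Qb K) : GU K).a = s * (g : GU K).a
  c : ∀ g : Qb K, ((δ g : Qb K) : GU K).c = s * t * (g : GU K).c
  d : ∀ g : Qb K, ((δ g : Qb K) : GU K).d = s ^ 2 * t * (g : GU K).d
  e : ∀ g : Qb K, ((δ g : Qb K) : GU K).e = s ^ 3 * t * (g : GU K).e
  f : ∀ g : Qb K, ((δ g : Qb K) : GU K).f = s ^ 3 * t ^ 2 * (g : GU K).f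

theorem tb_wb {δ δ' w : MulAut (Qb K)} {s t : K} (ht : t ≠ 0) (hδ : IsTb δ s t) (hδ' : IsTb δ' (s * t) t⁻¹)
    (hw : IsWb w) : w * δ' = δ * w := by
  ext1 g
  rw [MulAut.mul_apply, MulAut.mul_apply]
  apply ext'
  · rw [hw.a, hδ.a, hδ'.c, hw.a]
    field_simp
  · rw [hw.c, hδ.c, hδ'.a, hw.c]
  · rw [hw.d, hδ.d, hδ'.d, hδ'.a, hδ'.c, hw.d]
    field_simp
  · rw [hw.e, hδ.e, hδ'.f, hδ'.a, hδ'.c, hw.e]
    field_simp
  · rw [hw.f, hδ.f, hδ'.e, hδ'.a, hδ'.c, hw.f]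
    field_simp

theorem LbH.exists_tb {Γ : Subgroup (MulAut (Qb K))} {D : Subgroup (MulAut (GU K))} (h : LbH K p n Γ D) (hF : Full D)
    {s t : K} (hs : s ≠ 0) (ht : t ≠ 0) : ∃ δ ∈ Γ, IsTb δ s t := by
  obtain ⟨α, hα⟩ := (h.grp h.hyp).2.2.1 s t (RingEquiv.refl K) hs ht
  obtain ⟨δ, hδ⟩ := exists_restr α hα
  refine ⟨δ, h.par.D_res α (hF s t α hα) δ hδ, ?_⟩
  constructor
  · intro g; rw [hδ, hα.a]; rfl
  · intro g; rw [hδ, hα.c]; rfl
  · intro g; rw [hδ, hα.d]; rfl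
  · intro g; rw [hδ, hα.e]; rfl
  · intro g; rw [hδ, hα.f]; rfl

/-- **Equivariance modulo inner automorphisms.** -/
theorem LbH.equi {Γ : Subgroup (MulAut (Qb K))} {D : Subgroup (MulAut (GU K))} (h : LbH K p n Γ D) (hF : Full D)
    {w g : MulAut (Qb K)} (hw : IsWb w) (hg : g ∈ Γ) (hgw : pi h.hyp h.odd g = pi h.hyp h.odd w)
    {s t : K} (hs : s ≠ 0) (ht : t ≠ 0) : ∃ δ : MulAut (Qb K), IsTb δ s t ∧ ∃ q : Qb K, ∀ x : Qb K,
      (g * w⁻¹) (δ x) = q * δ ((g * w⁻¹) x) * q⁻¹ := by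
  obtain ⟨δ, hδΓ, hδ⟩ := h.exists_tb hF hs ht
  obtain ⟨δ', hδ'Γ, hδ'⟩ := h.exists_tb hF (mul_ne_zero hs ht) (inv_ne_zero ht)
  have h1 := tb_wb ht hδ hδ' hw
  have h2 : (g * w⁻¹) * δ * (g * w⁻¹)⁻¹ * δ⁻¹ = g * δ' * g⁻¹ * δ⁻¹ := by
    have h3 : w⁻¹ * δ * w = δ' := by rw [mul_assoc, ← h1]; group
    rw [← h3]
    group
  have h3 : (g * w⁻¹) * δ * (g * w⁻¹)⁻¹ * δ⁻¹ ∈ Inn (Qb K) := by
    apply h.ker'
    · rw [h2]
      exact mul_mem (mul_mem (mul_mem hg hδ'Γ) (inv_mem hg)) (inv_mem hδΓ)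
    · have h4 : pi h.hyp h.odd (g * w⁻¹) = 1 := by rw [map_mul, map_inv, hgw, mul_inv_cancel]
      rw [map_mul, map_mul, map_mul, map_inv, h4, map_inv]
      group
  obtain ⟨q, hq⟩ := h3
  refine ⟨δ, hδ, q, fun x => ?_⟩
  have h4 : MulAut.conj q * (δ * (g * w⁻¹)) = (g * w⁻¹) * δ := by
    rw [hq]
    group
  have h5 := congrArg (fun θ : MulAut (Qb K) => θ x) h4
  exact h5.symm

/-- an element of `Γ` with the image of the Weyl element -/
theorem LbH.exists_g {Γ : Subgroup (MulAut (Qb K))} {D : Subgroup (MulAut (GU K))} (h : LbH K p n Γ D)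
    {w : MulAut (Qb K)} (hw : IsWb w) : ∃ g ∈ Γ, pi h.hyp h.odd g = pi h.hyp h.odd w := by
  obtain ⟨g, hg, hu⟩ := h.exists_lift ⟨!![0, 1; -1, 0], by rw [Matrix.det_fin_two_of]; ring⟩
  refine ⟨g, hg, ?_⟩
  apply Cfsg.Agent.H7.PU.Core.ext'
  intro u
  rw [hu, pi_wb h.hyp h.odd hw]
  apply Prod.ext
  · show 0 * u.1 + 1 * u.2 = u.2
    ring
  · show -1 * u.1 + 0 * u.2 = - u.1
    ring

/-! ### additive functions on `Q_b` -/

theorem conj_c (q y : Qb K) : ((q * y * q⁻¹ : Qb K) : GU K).c = (y : GU K).c := by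
  obtain ⟨z, hz⟩ : ∃ z, z = q * y * q⁻¹ := ⟨_, rfl⟩
  have h1 : z * q = q * y := by rw [hz]; group
  have h3 := congrArg (fun w : Qb K => (w : GU K).c) h1
  simp only [mul_c'] at h3
  rw [← hz]
  linear_combination h3

theorem conj_a (q y : Qb K) : ((q * y * q⁻¹ : Qb K) : GU K).a = (y : GU K).a := by
  obtain ⟨z, hz⟩ : ∃ z, z = q * y * q⁻¹ := ⟨_, rfl⟩
  have h1 : z * q = q * y := by rw [hz]; group
  have h3 := congrArg (fun w : Qb K => (w : GU K).a) h1
  simp only [mul_a'] at h3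
  rw [← hz]
  linear_combination h3

theorem conj_d (q y : Qb K) : ((q * y * q⁻¹ : Qb K) : GU K).d =
    (y : GU K).d + 2 * ((q : GU K).c * (y : GU K).a - (y : GU K).c * (q : GU K).a) := by
  have hc := conj_c q y
  obtain ⟨z, hz⟩ : ∃ z, z = q * y * q⁻¹ := ⟨_, rfl⟩
  have h1 : z * q = q * y := by rw [hz]; group
  have h2 := congrArg (fun w : Qb K => (w : GU K).d) h1
  simp only [mul_d'] at h2
  rw [← hz] at hc ⊢
  rw [hc] at h2
  linear_combination h2

/-- an additive function -/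
def Ad (f : Qb K → K) : Prop := ∀ x y, f (x * y) = f x + f y

namespace Ad

variable {f : Qb K → K} (hf : Ad f)
include hf

theorem one : f 1 = 0 := by
  have := hf 1 1
  rw [one_mul] at this
  exact left_eq_add.1 this

theorem inv (x : Qb K) : f x⁻¹ = - f x := by
  have := hf x⁻¹ x
  rw [inv_mul_cancel, hf.one] at this
  exact eq_neg_of_add_eq_zero_left this.symm

theorem comm (x y : Qb K) : f (x * y * x⁻¹ * y⁻¹) = 0 := by
  rw [hf, hf, hf, hf.inv, hf.inv]
  ring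

theorem eq (x : Qb K) : f x = f (el (x : GU K).a 0 0 0 0) + f (el 0 (x : GU K).c 0 0 0) + f (el 0 0 (x : GU K).d 0 0)
    + f (el 0 0 0 (x : GU K).e 0) + f (el 0 0 0 0 (x : GU K).f) := by
  rw [← hf, ← hf, ← hf, ← hf]
  congr 1
  apply ext'
  · simp only [mul_a', el_a]; ring
  · simp only [mul_c', el_c]; ring
  · simp only [mul_d', mul_c', el_a, el_c, el_d]; ring
  · simp only [mul_e', mul_d', mul_c', el_a, el_c, el_d, el_e]; ring
  · simp only [mul_f', mul_d', mul_c', el_a, el_c, el_d, el_f]; ring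

theorem a_add (x y : K) : f (el (x + y) 0 0 0 0) = f (el x 0 0 0 0) + f (el y 0 0 0 0) := by
  rw [← hf]
  congr 1
  apply ext'
  · simp only [mul_a', el_a]
  · simp only [mul_c', el_c]; ring
  · simp only [mul_d', el_a, el_c, el_d]; ring
  · simp only [mul_e', el_a, el_c, el_d, el_e]; ring
  · simp only [mul_f', el_a, el_c, el_d, el_f]; ring

theorem c_add (x y : K) : f (el 0 (x + y) 0 0 0) = f (el 0 x 0 0 0) + f (el 0 y 0 0 0) := by
  rw [← hf]
  congr 1
  apply ext'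
  · simp only [mul_a', el_a]; ring
  · simp only [mul_c', el_c]
  · simp only [mul_d', el_a, el_c, el_d]; ring
  · simp only [mul_e', el_a, el_c, el_d, el_e]; ring
  · simp only [mul_f', el_a, el_c, el_d, el_f]; ring

theorem d_add (x y : K) : f (el 0 0 (x + y) 0 0) = f (el 0 0 x 0 0) + f (el 0 0 y 0 0) := by
  rw [← hf]
  congr 1
  apply ext'
  · simp only [mul_a', el_a]; ring
  · simp only [mul_c', el_c]; ring
  · simp only [mul_d', el_a, el_c, el_d]; ring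
  · simp only [mul_e', el_a, el_c, el_d, el_e]; ring
  · simp only [mul_f', el_a, el_c, el_d, el_f]; ring

theorem e_add (x y : K) : f (el 0 0 0 (x + y) 0) = f (el 0 0 0 x 0) + f (el 0 0 0 y 0) := by
  rw [← hf]
  congr 1
  apply ext'
  · simp only [mul_a', el_a]; ring
  · simp only [mul_c', el_c]; ring
  · simp only [mul_d', el_a, el_c, el_d]; ring
  · simp only [mul_e', el_a, el_c, el_d, el_e]; ring
  · simp only [mul_f', el_a, el_c, el_d, el_f]; ring

theorem f_add (x y : K) : f (el 0 0 0 0 (x + y)) = f (el 0 0 0 0 x) + f (el 0 0 0 0 y) := by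
  rw [← hf]
  congr 1
  apply ext'
  · simp only [mul_a', el_a]; ring
  · simp only [mul_c', el_c]; ring
  · simp only [mul_d', el_a, el_c, el_d]; ring
  · simp only [mul_e', el_a, el_c, el_d, el_e]; ring
  · simp only [mul_f', el_a, el_c, el_d, el_f]; ring

end Ad

theorem add_neg' {g : K → K} (hg : ∀ x y, g (x + y) = g x + g y) (x : K) : g (-x) = - g x := by
  have h0 : g 0 = 0 := by
    have := hg 0 0
    rw [add_zero] at this
    exact left_eq_add.1 this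
  have := hg (-x) x
  rw [neg_add_cancel, h0] at this
  exact eq_neg_of_add_eq_zero_left this.symm

end Cfsg.Agent.H904.GT
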