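import Cfsg.Agent.H904.GT.Kap

/-!
# S5211, (LB-3): `StLb` for `p = 3` (helper904)
-/

set_option autoImplicit false
set_option linter.unusedSectionVars false
set_option linter.unusedSimpArgs false

namespace Cfsg.Agent.H904.GT

open Matrix Cfsg Cfsg.FusionSystem Cfsg.Agent.H756.PU Cfsg.Agent.H7.PU.Core Cfsg.Agent.H779.G2
open Cfsg.Agent.H802 (exists_conjAut mem_autInducedBy_iff)

universe u

variable {K : Type u} [Field K] {p n : ℕ}

theorem IsTb.el {δ : MulAut (Qb K)} {s t : K} (hδ : IsTb δ s t) (a c d e f : K) :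
    δ (el a c d e f) = GT.el (s * a) (s * t * c) (s ^ 2 * t * d) (s ^ 3 * t * e) (s ^ 3 * t ^ 2 * f) := by
  apply ext'
  · rw [hδ.a]; rfl
  · rw [hδ.c]; rfl
  · rw [hδ.d]; rfl
  · rw [hδ.e]; rfl
  · rw [hδ.f]; rfl

theorem conj_e3 (h3 : (3 : K) = 0) (q y : Qb K) : ((q * y * q⁻¹ : Qb K) : GU K).e = (y : GU K).e := by
  obtain ⟨z, hz⟩ : ∃ z, z = q * y * q⁻¹ := ⟨_, rfl⟩
  have h1 : z * q = q * y := by rw [hz]; group
  have h2 := congrArg (fun w : Qb K => (w : GU K).e) h1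
  simp only [mul_e'] at h2
  rw [← hz]
  rw [h3] at h2
  linear_combination h2

theorem conj_f3 (h3 : (3 : K) = 0) (q y : Qb K) : ((q * y * q⁻¹ : Qb K) : GU K).f = (y : GU K).f := by
  obtain ⟨z, hz⟩ : ∃ z, z = q * y * q⁻¹ := ⟨_, rfl⟩
  have h1 : z * q = q * y := by rw [hz]; group
  have h2 := congrArg (fun w : Qb K => (w : GU K).f) h1
  simp only [mul_f'] at h2
  rw [← hz]
  have h6 : (6 : K) = 0 := by linear_combination 2 * h3
  rw [h3, h6] at h2
  linear_combination h2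

/-- inner automorphisms fix the centre, `p = 3` -/
theorem inn_fix3 (h2 : (2 : K) ≠ 0) (h3 : (3 : K) = 0) {i : MulAut (Qb K)} (hi : i ∈ Inn (Qb K)) {x : Qb K}
    (hx : uu (x : GU K) = 0) : i x = x := by
  obtain ⟨q, rfl⟩ := hi
  rw [← central_iff3 h2 h3] at hx
  show q * x * q⁻¹ = x
  rw [← hx q, mul_inv_cancel_right]

theorem half {x : K} (h2 : (2 : K) ≠ 0) (h : 2 * x = 0) : x = 0 := (mul_eq_zero.1 h).resolve_left h2

/-- the shape of `κ` -/
theorem kap3 {Γ : Subgroup (MulAut (Qb K))} {D : Subgroup (MulAut (GU K))} (h : LbH K p n Γ D) (h3 : p = 3)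
    (hF : Full D) {w g : MulAut (Qb K)} (hw : IsWb w) (hg : g ∈ Γ) (hgw : pi h.hyp h.odd g = pi h.hyp h.odd w) :
    ∃ l m E F : K, ∀ x : Qb K, (((g * w⁻¹) x : Qb K) : GU K).a = (x : GU K).a ∧
      (((g * w⁻¹) x : Qb K) : GU K).c = (x : GU K).c ∧
      (((g * w⁻¹) x : Qb K) : GU K).d = (x : GU K).d + l * (x : GU K).a + m * (x : GU K).c ∧
      (((g * w⁻¹) x : Qb K) : GU K).e = E * (x : GU K).e ∧
      (((g * w⁻¹) x : Qb K) : GU K).f = F * (x : GU K).f := by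
  have h2' := two_ne h.hyp h.odd
  have h3' := three_eq h.hyp h3
  have h6' : (6 : K) = 0 := by linear_combination 2 * h3'
  have := h.hyp.fin
  have hequi := fun {s t : K} (hs : s ≠ 0) (ht : t ≠ 0) => h.equi hF hw hg hgw hs ht
  have hk : pi h.hyp h.odd (g * w⁻¹) = 1 := by rw [map_mul, map_inv, hgw, mul_inv_cancel]
  rw [pi_eq_one_iff] at hk
  generalize g * w⁻¹ = κ at hequi hk
  have ha : ∀ x, ((κ x : Qb K) : GU K).a = (x : GU K).a := fun x => (hk x).1
  have hc : ∀ x, ((κ x : Qb K) : GU K).c = (x : GU K).c := fun x => (hk x).2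
  obtain ⟨zd, hzd⟩ : ∃ zd : Qb K → K, ∀ x, zd x = ((κ x : Qb K) : GU K).d - (x : GU K).d := ⟨_, fun _ => rfl⟩
  obtain ⟨ze, hze⟩ : ∃ ze : Qb K → K, ∀ x, ze x = ((κ x : Qb K) : GU K).e - (x : GU K).e := ⟨_, fun _ => rfl⟩
  obtain ⟨zf, hzf⟩ : ∃ zf : Qb K → K, ∀ x, zf x = ((κ x : Qb K) : GU K).f - (x : GU K).f := ⟨_, fun _ => rfl⟩
  have ad : Ad zd := by
    intro x y
    rw [hzd, hzd, hzd, map_mul, mul_d', mul_d', hc, ha]
    ring
  have ae : Ad ze := by
    intro x y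
    rw [hze, hze, hze, map_mul, mul_e', mul_e', h3']
    ring
  have af : Ad zf := by
    intro x y
    rw [hzf, hzf, hzf, map_mul, mul_f', mul_f', h3', h6']
    ring
  have key : ∀ {s t : K}, s ≠ 0 → t ≠ 0 → ∃ q : Qb K, ∀ a c d e f : K,
      zd (el (s * a) (s * t * c) (s ^ 2 * t * d) (s ^ 3 * t * e) (s ^ 3 * t ^ 2 * f)) =
        s ^ 2 * t * zd (el a c d e f) + 2 * ((q : GU K).c * (s * a) - (q : GU K).a * (s * t * c)) ∧
      ze (el (s * a) (s * t * c) (s ^ 2 * t * d) (s ^ 3 * t * e) (s ^ 3 * t ^ 2 * f)) = s ^ 3 * t * ze (el a c d e f) ∧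
      zf (el (s * a) (s * t * c) (s ^ 2 * t * d) (s ^ 3 * t * e) (s ^ 3 * t ^ 2 * f)) =
        s ^ 3 * t ^ 2 * zf (el a c d e f) := by
    intro s t hs ht
    obtain ⟨δ, hδ, q, hq⟩ := hequi hs ht
    refine ⟨q, fun a c d e f => ?_⟩
    rw [← hδ.el]
    refine ⟨?_, ?_, ?_⟩
    · rw [hzd, hzd, hq, conj_d, hδ.a, hδ.c, hδ.d, hδ.d, ha, hc]
      simp only [el_a, el_c]
      ring
    · rw [hze, hze, hq, conj_e3 h3', hδ.e, hδ.e]
      ring
    · rw [hzf, hzf, hq, conj_f3 h3', hδ.f, hδ.f]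
      ring
  have n1 : (-1 : K) ≠ 0 := neg_ne_zero.2 one_ne_zero
  obtain ⟨r, hr0, hr⟩ := Cfsg.Agent.H7.PU.Shear.exists_sq_ne (K := K) (by rw [h.hyp.card]; have := h.five; omega)
  -- (1, -1)
  obtain ⟨q1, k1⟩ := key (s := 1) (t := -1) one_ne_zero n1
  -- (-1, -1)
  obtain ⟨q2, k2⟩ := key (s := -1) (t := -1) n1 n1
  -- (-1, 1)
  obtain ⟨q3, k3⟩ := key (s := -1) (t := 1) n1 one_ne_zero
  -- (r, r⁻¹)
  obtain ⟨q4, k4⟩ := key (s := r) (t := r⁻¹) hr0 (inv_ne_zero hr0)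
  have ze0 : ∀ {f : Qb K → K}, Ad f → f (el 0 0 0 0 0) = 0 := fun hf => hf.one
  have Ea : ∀ a, ze (el a 0 0 0 0) = 0 := by
    intro a
    have e1 := (k1 a 0 0 0 0).2.1
    simp only [mul_zero, one_mul, one_pow, mul_neg, mul_one] at e1
    apply half h2'
    linear_combination e1
  have Ec : ∀ c, ze (el 0 c 0 0 0) = 0 := by
    intro c
    have e1 := (k4 0 c 0 0 0).2.1
    have e2 : r * r⁻¹ * c = c := by field_simp
    have e3 : r ^ 3 * r⁻¹ = r ^ 2 := by field_simp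
    simp only [mul_zero, e2, e3] at e1
    have e4 : (r⁻¹ - r) * ze (el 0 c 0 0 0) = 0 := by
      field_simp
      linear_combination e1
    exact (mul_eq_zero.1 e4).resolve_left hr
  have Ee : ∀ e, ze (el 0 0 0 e 0) = ze (el 0 0 0 1 0) * e := by
    intro e
    by_cases he : e = 0
    · rw [he, mul_zero]
      exact ze0 ae
    · obtain ⟨q, k⟩ := key (s := 1) (t := e) one_ne_zero he
      have e1 := (k 0 0 0 1 0).2.1
      simp only [mul_zero, one_mul, one_pow, mul_one] at e1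
      rw [e1]
      ring
  have Ef : ∀ f, ze (el 0 0 0 0 f) = 0 := by
    intro f
    have e1 := (k1 0 0 0 0 f).2.1
    simp only [mul_zero, one_mul, one_pow, mul_neg, mul_one] at e1
    have e2 : ((-1 : K) ^ 2) * f = f := by ring
    rw [e2] at e1
    apply half h2'
    linear_combination e1
  have Fa : ∀ a, zf (el a 0 0 0 0) = 0 := by
    intro a
    obtain ⟨q, k⟩ := key (s := 1) (t := r) one_ne_zero hr0
    have e1 := (k a 0 0 0 0).2.2
    simp only [mul_zero, one_mul, one_pow] at e1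
    have e4 : (r⁻¹ - r) * zf (el a 0 0 0 0) = 0 := by
      field_simp
      linear_combination e1
    exact (mul_eq_zero.1 e4).resolve_left hr
  have Fc : ∀ c, zf (el 0 c 0 0 0) = 0 := by
    intro c
    have e1 := (k2 0 c 0 0 0).2.2
    have e2 : (-1 : K) * -1 * c = c := by ring
    have e3 : (-1 : K) ^ 3 * (-1) ^ 2 = -1 := by ring
    simp only [mul_zero, e2, e3] at e1
    apply half h2'
    linear_combination e1
  have Fe : ∀ e, zf (el 0 0 0 e 0) = 0 := by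
    intro e
    have e1 := (k1 0 0 0 e 0).2.2
    have e2 : (1 : K) ^ 3 * -1 * e = - e := by ring
    have e3 : (1 : K) ^ 3 * (-1) ^ 2 = 1 := by ring
    simp only [mul_zero, e2, e3, one_mul] at e1
    rw [add_neg' (g := fun x => zf (el 0 0 0 x 0)) (fun x y => af.e_add x y)] at e1
    apply half h2'
    linear_combination -e1
  have Ff : ∀ f, zf (el 0 0 0 0 f) = zf (el 0 0 0 0 1) * f := by
    intro f
    by_cases he : f = 0
    · rw [he, mul_zero]
      exact ze0 af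
    · obtain ⟨q, k⟩ := key (s := f⁻¹) (t := f ^ 2) (inv_ne_zero he) (pow_ne_zero 2 he)
      have e1 := (k 0 0 0 0 1).2.2
      have e2 : f⁻¹ ^ 3 * (f ^ 2) ^ 2 = f := by field_simp
      simp only [mul_zero, e2, mul_one] at e1
      rw [e1]
      ring
  have De : ∀ e, zd (el 0 0 0 e 0) = 0 := by
    intro e
    have e1 := (k3 0 0 0 e 0).1
    have e2 : (-1 : K) ^ 3 * 1 * e = - e := by ring
    have e3 : (-1 : K) ^ 2 * 1 = 1 := by ring
    simp only [mul_zero, e2, e3, one_mul, sub_zero, add_zero] at e1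
    rw [add_neg' (g := fun x => zd (el 0 0 0 x 0)) (fun x y => ad.e_add x y)] at e1
    apply half h2'
    linear_combination -e1
  have Df : ∀ f, zd (el 0 0 0 0 f) = 0 := by
    intro f
    have e1 := (k1 0 0 0 0 f).1
    have e2 : (1 : K) ^ 3 * (-1) ^ 2 * f = f := by ring
    have e3 : (1 : K) ^ 2 * -1 = -1 := by ring
    simp only [mul_zero, e2, e3, sub_zero, add_zero] at e1
    apply half h2'
    linear_combination e1
  have Dd : ∀ d, zd (el 0 0 d 0 0) = 0 := by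
    intro d
    have e2 := ad.comm (el 0 (d / 2) 0 0 0) (el 1 0 0 0 0)
    have e1 : el 0 0 d 0 0 * (el 1 0 0 0 0 * el 0 (d / 2) 0 0 0) = el 0 (d / 2) 0 0 0 * el 1 0 0 0 0 := by
      apply ext'
      · simp only [mul_a', el_a]; ring
      · simp only [mul_c', el_c]; ring
      · simp only [mul_d', mul_a', el_a, el_c, el_d]; field_simp; ring
      · simp only [mul_e', h3']; simp only [el_e]; ring
      · simp only [mul_f', h3', h6']; simp only [el_f]; ring
    have e3 : el 0 (d / 2) 0 0 0 * el 1 0 0 0 0 * (el 0 (d / 2) 0 0 0)⁻¹ * (el 1 0 0 0 0)⁻¹ = el 0 0 d 0 0 := by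
      rw [← e1]
      group
    rwa [e3] at e2
  have Da : ∀ a, zd (el a 0 0 0 0) = (q1 : GU K).c * a := by
    intro a
    have e1 := (k1 a 0 0 0 0).1
    have e3 : (1 : K) ^ 2 * -1 = -1 := by ring
    simp only [mul_zero, e3, sub_zero, one_mul] at e1
    rw [← sub_eq_zero]
    apply half h2'
    linear_combination e1
  have Dc : ∀ c, zd (el 0 c 0 0 0) = - (q2 : GU K).a * c := by
    intro c
    have e1 := (k2 0 c 0 0 0).1
    have e2 : (-1 : K) * -1 * c = c := by ring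
    have e3 : (-1 : K) ^ 2 * -1 = -1 := by ring
    simp only [mul_zero, e2, e3, zero_sub] at e1
    rw [← sub_eq_zero]
    apply half h2'
    linear_combination e1
  refine ⟨(q1 : GU K).c, - (q2 : GU K).a, 1 + ze (el 0 0 0 1 0), 1 + zf (el 0 0 0 0 1), fun x => ⟨ha x, hc x, ?_, ?_, ?_⟩⟩
  · have e1 := ad.eq x
    rw [Da, Dc, Dd, De, Df, hzd] at e1
    linear_combination e1
  · have e1 := ae.eq x
    have e2 : ze (el 0 0 (x : GU K).d 0 0) = 0 := by
      have e3 := (k1 0 0 (x : GU K).d 0 0).2.1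
      have e4 := (k2 0 0 (x : GU K).d 0 0).2.1
      simp only [mul_zero] at e3 e4
      have e5 : (1 : K) ^ 2 * -1 * (x : GU K).d = - (x : GU K).d := by ring
      have e6 : (-1 : K) ^ 2 * -1 * (x : GU K).d = - (x : GU K).d := by ring
      rw [e5] at e3
      rw [e6, e3] at e4
      apply half h2'
      linear_combination -e4
    rw [Ea, Ec, e2, Ee, Ef, hze] at e1
    linear_combination e1
  · have e1 := af.eq x
    have e2 : zf (el 0 0 (x : GU K).d 0 0) = 0 := by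
      have e3 := (k1 0 0 (x : GU K).d 0 0).2.2
      have e4 := (k2 0 0 (x : GU K).d 0 0).2.2
      simp only [mul_zero] at e3 e4
      have e5 : (1 : K) ^ 2 * -1 * (x : GU K).d = - (x : GU K).d := by ring
      have e6 : (-1 : K) ^ 2 * -1 * (x : GU K).d = - (x : GU K).d := by ring
      rw [e5] at e3
      rw [e6, e3] at e4
      apply half h2'
      linear_combination e4
    rw [Fa, Fc, e2, Fe, Ff, hzf] at e1
    linear_combination e1

/-- conjugation by `x_β(r)` on `Z₃` -/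
theorem conj_z3 {P : MulAut (Qb K)} {r : K} (hP : ∀ e : Qb K, ((P e : Qb K) : GU K) =
    (⟨0, r, 0, 0, 0, 0⟩ : GU K) * e * (⟨0, r, 0, 0, 0, 0⟩ : GU K)⁻¹) (d e f : K) :
    P (el 0 0 d e f) = el 0 0 d e (f + r * e) := by
  apply Subtype.ext
  rw [hP]
  apply GU.ext
  · simp only [GU.mul_a, GU.inv_a, el_a]; ring
  · simp only [GU.mul_b, GU.inv_b, b_Qb]; ring
  · simp only [GU.mul_a, GU.mul_b, GU.mul_c, GU.inv_a, GU.inv_b, GU.inv_c, b_Qb, el_a, el_c]; ring
  · simp only [GU.mul_a, GU.mul_b, GU.mul_c, GU.mul_d, GU.inv_a, GU.inv_b, GU.inv_c, GU.inv_d, b_Qb, el_a, el_c, el_d]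
    ring
  · simp only [GU.mul_a, GU.mul_b, GU.mul_c, GU.mul_d, GU.mul_e, GU.inv_a, GU.inv_b, GU.inv_c, GU.inv_d, GU.inv_e,
      b_Qb, el_a, el_c, el_d, el_e]
    ring
  · simp only [GU.mul_a, GU.mul_b, GU.mul_c, GU.mul_d, GU.mul_e, GU.mul_f, GU.inv_a, GU.inv_b, GU.inv_c, GU.inv_d,
      GU.inv_e, GU.inv_f, b_Qb, el_a, el_c, el_d, el_e, el_f]
    ring

theorem wb_mem3 {Γ : Subgroup (MulAut (Qb K))} {D : Subgroup (MulAut (GU K))} (h : LbH K p n Γ D) (h3 : p = 3)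
    (hF : Full D) {w : MulAut (Qb K)} (hw : IsWb w) : w ∈ Γ := by
  have h2' := two_ne h.hyp h.odd
  have h3' := three_eq h.hyp h3
  obtain ⟨g, hg, hgw⟩ := h.exists_g hw
  obtain ⟨l, m, E, F, hκ⟩ := kap3 h h3 hF hw hg hgw
  obtain ⟨y, hy⟩ : ∃ y : Qb K, y = el (-(m / 2)) (l / 2) 0 0 0 := ⟨_, rfl⟩
  have hya : (y : GU K).a = - (m / 2) := by rw [hy]; rfl
  have hyc : (y : GU K).c = l / 2 := by rw [hy]; rfl
  obtain ⟨ρ, hρ⟩ : ∃ ρ : MulAut (Qb K), ρ = (MulAut.conj y)⁻¹ * g := ⟨_, rfl⟩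
  have hρΓ : ρ ∈ Γ := by
    rw [hρ]
    exact mul_mem (inv_mem (h.Inn_le_G ⟨y, rfl⟩)) hg
  have hρx : ∀ x : Qb K, y * ρ x * y⁻¹ = (g * w⁻¹) (w x) := by
    intro x
    have e1 : MulAut.conj y * ρ = (g * w⁻¹) * w := by rw [hρ]; group
    have e2 := congrArg (fun θ : MulAut (Qb K) => θ x) e1
    exact e2
  have ra : ∀ x : Qb K, ((ρ x : Qb K) : GU K).a = - (x : GU K).c := by
    intro x
    rw [← conj_a y, hρx, (hκ _).1, hw.a]
  have rc : ∀ x : Qb K, ((ρ x : Qb K) : GU K).c = (x : GU K).a := by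
    intro x
    rw [← conj_c y, hρx, (hκ _).2.1, hw.c]
  have rd : ∀ x : Qb K, ((ρ x : Qb K) : GU K).d = (x : GU K).d - 2 * (x : GU K).a * (x : GU K).c := by
    intro x
    have e1 := conj_d y (ρ x)
    rw [hρx, (hκ _).2.2.1, hw.d, hw.a, hw.c, ra, rc, hya, hyc] at e1
    field_simp at e1
    linear_combination -e1
  have re : ∀ x : Qb K, ((ρ x : Qb K) : GU K).e = - (E * (x : GU K).f) := by
    intro x
    rw [← conj_e3 h3' y, hρx, (hκ _).2.2.2.1, hw.e, h3']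
    ring
  have rf : ∀ x : Qb K, ((ρ x : Qb K) : GU K).f = F * (x : GU K).e := by
    intro x
    rw [← conj_f3 h3' y, hρx, (hκ _).2.2.2.2, hw.f, h3']
    ring
  have hρel : ∀ d e f : K, ρ (el 0 0 d e f) = el 0 0 d (- (E * f)) (F * e) := by
    intro d e f
    apply ext'
    · rw [ra, el_c, el_a, neg_zero]
    · rw [rc, el_c, el_a]
    · rw [rd, el_a, el_c, el_d, el_d]; ring
    · rw [re, el_e, el_f]
    · rw [rf, el_e, el_f]
  have hE : E ≠ 0 := by
    intro h0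
    have e1 : ρ (el 0 0 0 0 1) = ρ 1 := by
      rw [hρel, h0, map_one]
      apply ext'
      · rfl
      · rfl
      · rfl
      · show - (0 * 1) = (0 : K)
        ring
      · show F * 0 = (0 : K)
        ring
    have e2 := ρ.injective e1
    have e3 := congrArg (fun w : Qb K => (w : GU K).f) e2
    exact one_ne_zero e3
  have hpρ : ∀ u, pi h.hyp h.odd ρ u = (u.2, - u.1) := by
    intro u
    rw [← uu_el u 0 0 0, pi_uu]
    exact Prod.ext (rc _) (ra _)
  obtain ⟨P1, hP1, e1⟩ := exists_conj_aut (⟨0, 1, 0, 0, 0, 0⟩ : GU K)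
  obtain ⟨P2, hP2, e2⟩ := exists_conj_aut (⟨0, -1, 0, 0, 0, 0⟩ : GU K)
  have p1 := pi_conj h.hyp h.odd e1
  have p2 := pi_conj h.hyp h.odd e2
  obtain ⟨i, hi⟩ : ∃ i, i = P1 * ρ * P1 * (ρ * P2 * ρ)⁻¹ := ⟨_, rfl⟩
  have hiΓ : i ∈ Γ := by
    rw [hi]
    exact mul_mem (mul_mem (mul_mem (h.par.indu hP1) hρΓ) (h.par.indu hP1))
      (inv_mem (mul_mem (mul_mem hρΓ (h.par.indu hP2)) hρΓ))
  have hii : i ∈ Inn (Qb K) := by
    apply h.ker' hiΓ
    rw [hi, map_mul, map_inv, mul_inv_eq_one]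
    apply Cfsg.Agent.H7.PU.Core.ext'
    intro u
    rw [map_mul, map_mul, map_mul, map_mul, p1, p2, LinearEquiv.mul_apply, LinearEquiv.mul_apply,
      LinearEquiv.mul_apply, LinearEquiv.mul_apply, hpρ, hpρ, tau_apply, tau_apply, tau_apply, hpρ]
    apply Prod.ext
    · simp only; ring
    · simp only; ring
  have key : ∀ e f : K, P1 (ρ (P1 (el 0 0 0 e f))) = ρ (P2 (ρ (el 0 0 0 e f))) := by
    intro e f
    have k1 : i * (ρ * P2 * ρ) = P1 * ρ * P1 := by rw [hi]; group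
    have k2 := congrArg (fun θ : MulAut (Qb K) => θ (el 0 0 0 e f)) k1
    have k3 : i (ρ (P2 (ρ (el 0 0 0 e f)))) = P1 (ρ (P1 (el 0 0 0 e f))) := k2
    rw [← k3]
    apply inn_fix3 h2' h3' hii
    apply inv_Z3 h.hyp h.odd
    apply inv_Z3 h.hyp h.odd
    apply inv_Z3 h.hyp h.odd
    rfl
  have key2 : ∀ e f : K, E * (f + e) = E * (F * e + E * f) := by
    intro e f
    have k1 := key e f
    rw [conj_z3 e1, hρel, conj_z3 e1, hρel, conj_z3 e2, hρel] at k1
    have k2 := congrArg (fun w : Qb K => (w : GU K).e) k1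
    simp only [el_e] at k2
    linear_combination -k2
  have hE1 : E = 1 := by
    have := mul_left_cancel₀ hE (key2 0 1)
    linear_combination -this
  have hF1 : F = 1 := by
    have := mul_left_cancel₀ hE (key2 1 0)
    linear_combination -this
  have hρw : IsWb ρ := by
    refine ⟨ra, rc, rd, fun x => ?_, fun x => ?_⟩
    · rw [re, hE1, h3']; ring
    · rw [rf, hF1, h3']; ring
  rw [IsWb_unique hw hρw]
  exact hρΓ

/-- **(LB-3)** `StLb` for `p = 3` -/
theorem stLb_three (h0 : StLb0.{u}) (hG : StGrp.{u}) {K : Type u} [Field K] {p n : ℕ} (h : HypG K p n) (h3 : p = 3)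
    (h5 : 5 ≤ p ^ n) (Γ : Subgroup (MulAut (Qb K))) (D : Subgroup (MulAut (GU K))) (hp : Par p (Qb K) Γ D) :
    HasTor D (fun t => t⁻¹) (fun t => t ^ 2) ∧ (Full D → Γ = Gen IsWb D) := by
  have hL : LbH K p n Γ D := by
    refine ⟨h, by omega, h5, hp, ?_, hG⟩
    subst h3
    refine (h0 h Γ hp.indu hp.syl hp.nn ?_).1
    intro γ hγ hn
    obtain ⟨x, d, hd, hx⟩ := hp.norm γ hγ hn
    exact ⟨MulAut.conj x * d, fun e => hx e⟩
  refine ⟨hL.hasTor, fun hF => ?_⟩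
  obtain ⟨w, hw⟩ := (hG h).2.2.2.2.2.1
  exact hL.eq_Gen hw (wb_mem3 hL h3 hF hw)

end Cfsg.Agent.H904.GT
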