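import Cfsg.Agent.H103.GT.Swap
import Cfsg.Agent.H779.G2.Stmts3

/-!
# S5211, `q = 3`: `StLa3` from `StLb3` by the graph automorphism (helper904)
-/

set_option autoImplicit false

namespace Cfsg.Agent.H904.GT.LaThree

open Cfsg Cfsg.FusionSystem Cfsg.Agent.H779.G2 Cfsg.Agent.H756.PU Cfsg.Agent.H802 Cfsg.Agent.H103.GT

universe u

variable {K : Type u} [Field K]

theorem cube (hK : HypG K 3 1) (x : K) : x ^ 3 = x := by
  have := hK.fin
  have : Fintype K := Fintype.ofFinite K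
  have h1 : Fintype.card K = 3 := by rw [← Nat.card_eq_fintype_card, hK.card]; norm_num
  have h2 := FiniteField.pow_card x
  rwa [h1] at h2

/-- `ρ⁻¹ ce3(0, -k) ρ = ce3(k, 0)` -/
theorem ce_down (hK : HypG K 3 1) {ρ α : MulAut (GU K)} {k : K} (h : IsGr ρ) (hα : IsCe3 0 (-k) α) :
    IsCe3 k 0 (ρ⁻¹ * α * ρ) := by
  have h0 := three_eq hK
  have key : ∀ g : GU K, (ρ⁻¹ * α * ρ) g = ⟨g.a, g.b, g.c, g.d, g.e, g.f + k * g.a⟩ := by
    intro g
    apply ρ.injective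
    rw [MulAut.mul_apply, MulAut.mul_apply, MulAut.apply_inv_self]
    apply GU.ext
    · rw [hα.a, h.a, h.a]
    · rw [hα.b, h.b, h.b]
    · rw [hα.c, h.c, h.c]
    · rw [hα.d, h.d, h.d, h.b, cube hK g.a]; ring
    · rw [hα.e, h.e, h.e]
    · rw [hα.f, h.f, h.f, h.a]; ring
  refine ⟨fun g => ?_, fun g => ?_, fun g => ?_, fun g => ?_, fun g => ?_, fun g => ?_⟩
  all_goals rw [key]
  simp

/-- `ρ ce3(k, 0) ρ⁻¹ = ce3(0, -k)` -/
theorem ce_up (hK : HypG K 3 1) {ρ α : MulAut (GU K)} {k : K} (h : IsGr ρ) (hα : IsCe3 k 0 α) :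
    IsCe3 0 (-k) (ρ * α * ρ⁻¹) := by
  have key : ∀ g : GU K, (ρ * α * ρ⁻¹) (ρ g) = ⟨(ρ g).a, (ρ g).b, (ρ g).c, (ρ g).d + -k * (ρ g).b, (ρ g).e, (ρ g).f⟩ := by
    intro g
    rw [MulAut.mul_apply, MulAut.mul_apply, MulAut.inv_apply_self]
    apply GU.ext
    · rw [h.a, h.a, hα.b]
    · rw [h.b, h.b, hα.a]
    · rw [h.c, h.c, hα.a, hα.b, hα.e]
    · rw [h.d, h.d, h.b, hα.a, hα.b, hα.f, cube hK g.a]; ring
    · rw [h.e, h.e, hα.a, hα.b, hα.c]
    · rw [h.f, h.f, hα.a, hα.b, hα.d]; ring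
  refine ⟨fun g => ?_, fun g => ?_, fun g => ?_, fun g => ?_, fun g => ?_, fun g => ?_⟩
  all_goals
    obtain ⟨g, rfl⟩ := ρ.surjective g
    rw [key]
  simp

theorem stLa3 (hb : StLb3.{u}) : StLa3.{u} := by
  intro K _ hK Γ D hP
  have := hK.fin
  obtain ⟨ρ, h⟩ := exists_gr (three_eq hK)
  obtain ⟨h1, h2⟩ := hb hK _ _ (par_swap h hP)
  constructor
  · intro t ht α hα
    have ht' : t⁻¹ ≠ 0 := inv_ne_zero ht
    obtain ⟨β, hβ⟩ := exists_tor (s := t⁻¹) (t := t ^ 2) (RingEquiv.refl K) ht' (pow_ne_zero 2 ht)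
    have h3 : ρ * β * ρ⁻¹ ∈ D := h1 t ht β hβ
    have h4 := gr_tor_conj h hβ
    have h5 : α = ρ * β * ρ⁻¹ := by
      apply ext_aut
      intro g
      have e : (t⁻¹) ^ 3 = (t ^ 3)⁻¹ := inv_pow t 3
      rw [e] at h4
      exact ⟨by rw [hα.a, h4.a], by rw [hα.b, h4.b], by rw [hα.c, h4.c], by rw [hα.d, h4.d], by rw [hα.e, h4.e],
        by rw [hα.f, h4.f]⟩
    rw [h5]
    exact h3
  · intro hD
    obtain ⟨k, hk⟩ := h2 (full_comap h hD)
    refine ⟨-k, fun γ => ?_⟩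
    obtain ⟨γ', rfl⟩ := (rB h).surjective γ
    have e1 : rB h γ' ∈ Γ ↔ γ' ∈ Γ.comap (rB h).toMonoidHom := Iff.rfl
    rw [e1, hk]
    constructor
    · rintro ⟨δ', hδ', hc⟩
      refine ⟨rB h δ', ?_, ?_⟩
      · rw [← gen_map h D]
        exact ⟨δ', hδ', rfl⟩
      · intro α hα g g' hg
        obtain ⟨x, rfl⟩ := (rb h).surjective g
        obtain ⟨x', rfl⟩ := (rb h).surjective g'
        rw [coe_rb, coe_rb] at hg
        rw [coe_rB_rb, coe_rB_rb]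
        have h3 := hc _ (ce_down hK h hα) x x' (by
          rw [MulAut.mul_apply, MulAut.mul_apply, ← hg, MulAut.inv_apply_self])
        rw [← h3, MulAut.mul_apply, MulAut.mul_apply, MulAut.apply_inv_self]
    · rintro ⟨δ, hδ, hc⟩
      rw [← gen_map h D] at hδ
      obtain ⟨δ', hδ', rfl⟩ := hδ
      refine ⟨δ', hδ', fun α hα x x' hx => ?_⟩
      have h3 := hc _ (ce_up hK h hα) (rb h x) (rb h x') (by
        rw [coe_rb, coe_rb, MulAut.mul_apply, MulAut.mul_apply, MulAut.inv_apply_self, ← hx])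
      have h4 : ((rB h δ' (rb h x) : Qa K) : GU K) = ρ ((δ' x : Qb K) : GU K) := coe_rB_rb h δ' x
      have h5 : (((rB h).toMonoidHom δ' (rb h x) : Qa K) : GU K) = ρ ((δ' x : Qb K) : GU K) := h4
      rw [h5, coe_rB_rb, MulAut.mul_apply, MulAut.mul_apply, MulAut.inv_apply_self] at h3
      exact ρ.injective h3

end Cfsg.Agent.H904.GT.LaThree
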