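import Cfsg.Agent.H904.GT.Pi

/-!
# S5211, the long root parabolic, `p` odd: the frame (helper904)

`Γ` acts on `Q_b / Z₃` with kernel in `Inn(Q_b)` (hypothesis `hk`).
-/

set_option autoImplicit false
set_option linter.unusedSectionVars false

namespace Cfsg.Agent.H904.GT

open Matrix Cfsg Cfsg.FusionSystem Cfsg.Agent.H756.PU Cfsg.Agent.H7.PU.Core Cfsg.Agent.H779.G2
open Cfsg.Agent.H802 (exists_conjAut mem_autInducedBy_iff)

universe u

variable {K : Type u} [Field K] {p n : ℕ}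

/-- the situation: `ker` says that an element of `Γ` trivial on `Q_b / Z₃` is inner -/
structure LbH (K : Type u) [Field K] (p n : ℕ) (Γ : Subgroup (MulAut (Qb K))) (D : Subgroup (MulAut (GU K))) : Prop where
  hyp : HypG K p n
  odd : p ≠ 2
  five : 5 ≤ p ^ n
  par : Par p (Qb K) Γ D
  ker : ∀ γ ∈ Γ, (∀ g : Qb K, ((γ g : Qb K) : GU K).a = (g : GU K).a ∧ ((γ g : Qb K) : GU K).c = (g : GU K).c) →
    γ ∈ Inn (Qb K)
  grp : StGrp.{u}

theorem finite_GU (h : HypG K p n) : Finite (GU K) := by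
  have := h.fin
  infer_instance

theorem finite_aut (h : HypG K p n) : Finite (MulAut (Qb K)) := by
  have := finite_GU h
  exact Finite.of_injective (fun e : MulAut (Qb K) => (e : Qb K → Qb K)) DFunLike.coe_injective

theorem IsTor_unique {d d' : MulAut (GU K)} {s t : K} {τ : K ≃+* K} (hd : IsTor d s t τ) (hd' : IsTor d' s t τ) :
    d = d' := by
  ext1 g
  apply GU.ext
  · rw [hd.a, hd'.a]
  · rw [hd.b, hd'.b]
  · rw [hd.c, hd'.c]
  · rw [hd.d, hd'.d]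
  · rw [hd.e, hd'.e]
  · rw [hd.f, hd'.f]

theorem IsWb_unique {w w' : MulAut (Qb K)} (hw : IsWb w) (hw' : IsWb w') : w = w' := by
  ext1 g
  apply ext'
  · rw [hw.a, hw'.a]
  · rw [hw.c, hw'.c]
  · rw [hw.d, hw'.d]
  · rw [hw.e, hw'.e]
  · rw [hw.f, hw'.f]

theorem exists_restr (d : MulAut (GU K)) {s t : K} {τ : K ≃+* K} (hd : IsTor d s t τ) :
    ∃ δ : MulAut (Qb K), IsR d δ := by
  have hmem : ∀ x : GU K, d x ∈ Qb K ↔ x ∈ Qb K := by
    intro x
    show (d x).b = 0 ↔ x.b = 0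
    rw [hd.b, mul_eq_zero, map_eq_zero]
    simp [hd.ne2]
  refine ⟨{ toFun := fun e => ⟨d e, (hmem _).2 e.2⟩
            invFun := fun e => ⟨d.symm e, (hmem _).1 (by rw [MulEquiv.apply_symm_apply]; exact e.2)⟩
            left_inv := fun e => Subtype.ext (d.symm_apply_apply _)
            right_inv := fun e => Subtype.ext (d.apply_symm_apply _)
            map_mul' := fun x y => Subtype.ext (map_mul d _ _) }, fun e => rfl⟩

/-- `SL₂(K)` is generated by the root group and the Weyl element -/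
theorem gen (h : HypG K p n) (h2 : p ≠ 2) {Λ : Subgroup (MulAut (Qb K))} (hA : autInducedBy ⊤ (Qb K) ≤ Λ)
    {w : MulAut (Qb K)} (hw : IsWb w) (hwL : w ∈ Λ) (M : Matrix.SpecialLinearGroup (Fin 2) K) :
    ∃ l ∈ Λ, ∀ u, pi h h2 l u = ml (M : Matrix (Fin 2) (Fin 2) K) u := by
  have htau : ∀ r : K, ∃ l ∈ Λ, pi h h2 l = tau r := by
    intro r
    obtain ⟨γ, hγ, hr⟩ := exists_of_mem_TG h h2 (tau_mem r)
    exact ⟨γ, hA hγ, hr⟩
  have hwi : ∀ u : K × K, (pi h h2 w)⁻¹ u = (- u.2, u.1) := by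
    intro u
    apply (pi h h2 w).injective
    rw [ai, pi_wb h h2 hw]
    apply Prod.ext
    · rfl
    · show u.2 = - - u.2
      rw [neg_neg]
  have hc : ∀ M : Matrix (Fin 2) (Fin 2) K, M.det = 1 → M 1 0 ≠ 0 → ∃ l ∈ Λ, ∀ u, pi h h2 l u = ml M u := by
    intro M hdet h0
    rw [Matrix.det_fin_two] at hdet
    obtain ⟨l1, hl1, e1⟩ := htau ((M 0 0 - 1) / M 1 0)
    obtain ⟨l2, hl2, e2⟩ := htau (- M 1 0)
    obtain ⟨l3, hl3, e3⟩ := htau ((M 1 1 - 1) / M 1 0)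
    refine ⟨l1 * (w * l2 * w⁻¹) * l3, mul_mem (mul_mem hl1 (mul_mem (mul_mem hwL hl2) (inv_mem hwL))) hl3, fun u => ?_⟩
    rw [map_mul, map_mul, map_mul, map_mul, map_inv, e1, e2, e3, LinearEquiv.mul_apply, LinearEquiv.mul_apply,
      LinearEquiv.mul_apply, LinearEquiv.mul_apply, hwi, pi_wb h h2 hw]
    apply Prod.ext
    · simp only [tau_apply, ml]
      field_simp
      linear_combination u.2 * hdet
    · simp only [tau_apply, ml]
      field_simp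
      ring
  by_cases h0 : (M : Matrix (Fin 2) (Fin 2) K) 1 0 = 0
  · have hdet := M.det_coe
    rw [Matrix.det_fin_two, h0, mul_zero, sub_zero] at hdet
    obtain ⟨l, hl, hlu⟩ := hc !![0, (M : Matrix (Fin 2) (Fin 2) K) 1 1; - (M : Matrix (Fin 2) (Fin 2) K) 0 0,
      - (M : Matrix (Fin 2) (Fin 2) K) 0 1] (by
        rw [Matrix.det_fin_two_of]
        linear_combination hdet) (by
        show - (M : Matrix (Fin 2) (Fin 2) K) 0 0 ≠ 0
        intro h1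
        rw [neg_eq_zero] at h1
        rw [h1, zero_mul] at hdet
        exact zero_ne_one hdet)
    refine ⟨w⁻¹ * l, mul_mem (inv_mem hwL) hl, fun u => ?_⟩
    rw [map_mul, map_inv, LinearEquiv.mul_apply, hwi, hlu]
    apply Prod.ext
    · show - (- (M : Matrix (Fin 2) (Fin 2) K) 0 0 * u.1 + - (M : Matrix (Fin 2) (Fin 2) K) 0 1 * u.2) =
        (M : Matrix (Fin 2) (Fin 2) K) 0 0 * u.1 + (M : Matrix (Fin 2) (Fin 2) K) 0 1 * u.2
      ring
    · show 0 * u.1 + (M : Matrix (Fin 2) (Fin 2) K) 1 1 * u.2 =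
        (M : Matrix (Fin 2) (Fin 2) K) 1 0 * u.1 + (M : Matrix (Fin 2) (Fin 2) K) 1 1 * u.2
      rw [h0]
  · exact hc _ M.det_coe h0

namespace LbH

variable {Γ : Subgroup (MulAut (Qb K))} {D : Subgroup (MulAut (GU K))} (h : LbH K p n Γ D)
include h

theorem ker' {γ : MulAut (Qb K)} (hγ : γ ∈ Γ) (h1 : pi h.hyp h.odd γ = 1) : γ ∈ Inn (Qb K) :=
  h.ker γ hγ ((pi_eq_one_iff h.hyp h.odd).1 h1)

theorem Inn_le_G : Inn (Qb K) ≤ Γ := Inn_le.trans h.par.indu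

theorem mem_aut_iff {γ : MulAut (Qb K)} (hγ : γ ∈ Γ) : pi h.hyp h.odd γ ∈ TG K ↔ γ ∈ autInducedBy ⊤ (Qb K) := by
  constructor
  · intro h1
    obtain ⟨x, hx, hxγ⟩ := exists_of_mem_TG h.hyp h.odd h1
    have h2 : x⁻¹ * γ ∈ autInducedBy ⊤ (Qb K) := by
      apply Inn_le
      apply h.ker' (mul_mem (inv_mem (h.par.indu hx)) hγ)
      rw [map_mul, map_inv, hxγ, inv_mul_cancel]
    have h3 := mul_mem hx h2
    rwa [mul_inv_cancel_left] at h3
  · intro h1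
    exact pi_mem_TG h.hyp h.odd h1

theorem isPGroup_GU : IsPGroup p (⊤ : Subgroup (GU K)) := (h.grp h.hyp).2.1

theorem ker_p {γ : MulAut (Qb K)} (hγ : γ ∈ Γ) (h1 : pi h.hyp h.odd γ = 1) : ∃ k : ℕ, γ ^ p ^ k = 1 := by
  have h2 := Inn_le (h.ker' hγ h1)
  obtain ⟨k, hk⟩ := Cfsg.Agent.H802.isPGroup_autInducedBy h.isPGroup_GU (Qb K) ⟨γ, h2⟩
  exact ⟨k, congrArg Subtype.val hk⟩

/-- **The hypotheses of `Core`.** -/
theorem core : Hyp K p (Γ.map (pi h.hyp h.odd)) := by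
  have := finite_aut h.hyp
  refine ⟨h.hyp.fin, h.hyp.pp, h.hyp.char, ?_, ?_, ?_⟩
  · intro g hg
    obtain ⟨x, hx, rfl⟩ := exists_of_mem_TG h.hyp h.odd hg
    exact ⟨x, h.par.indu hx, rfl⟩
  · intro P hPG hP hTP
    have hP' : IsPGroup p ↥(Γ ⊓ P.comap (pi h.hyp h.odd)) := by
      rintro ⟨x, hx, hx1⟩
      obtain ⟨k, hk⟩ := hP ⟨pi h.hyp h.odd x, hx1⟩
      have hk' : pi h.hyp h.odd x ^ p ^ k = 1 := congrArg Subtype.val hk
      obtain ⟨m, hm⟩ := h.ker_p (pow_mem hx (p ^ k)) (by rw [map_pow, hk'])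
      refine ⟨k + m, Subtype.ext ?_⟩
      show x ^ p ^ (k + m) = 1
      rw [pow_add, pow_mul, hm]
    obtain ⟨g, hg, hs⟩ := h.par.syl _ inf_le_left hP'
    have hA : autInducedBy ⊤ (Qb K) ≤ Γ ⊓ P.comap (pi h.hyp h.odd) := fun x hx =>
      ⟨h.par.indu hx, hTP (pi_mem_TG h.hyp h.odd hx)⟩
    have hcard : Nat.card ↥(Γ ⊓ P.comap (pi h.hyp h.odd)) ≤ Nat.card ↥(autInducedBy ⊤ (Qb K)) := by
      refine Nat.card_le_card_of_injective (fun x => ⟨g * x.1 * g⁻¹, hs x.1 x.2⟩) ?_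
      intro x y hxy
      have h1 : g * x.1 * g⁻¹ = g * y.1 * g⁻¹ := congrArg Subtype.val hxy
      exact Subtype.ext (mul_left_cancel (mul_right_cancel h1))
    have heq := Subgroup.eq_of_le_of_card_ge hA hcard
    intro y hy
    obtain ⟨x, hx, rfl⟩ := hPG hy
    have h2 : x ∈ Γ ⊓ P.comap (pi h.hyp h.odd) := ⟨hx, hy⟩
    rw [← heq] at h2
    exact pi_mem_TG h.hyp h.odd h2
  · by_contra hno
    push Not at hno
    apply h.par.nn
    intro γ hγ x hx
    have h1 := hno (pi h.hyp h.odd γ) ⟨γ, hγ, rfl⟩ (pi h.hyp h.odd x) (pi_mem_TG h.hyp h.odd hx)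
    rw [← map_inv, ← map_mul, ← map_mul] at h1
    exact (h.mem_aut_iff (mul_mem (mul_mem hγ (h.par.indu hx)) (inv_mem hγ))).1 h1

/-- elements which normalize the root group -/
theorem norm_form {g : A2 K} (hg : g ∈ Γ.map (pi h.hyp h.odd)) (hn : ∀ t ∈ TG K, g * t * g⁻¹ ∈ TG K) :
    ∃ (r : K) (d : MulAut (GU K)) (s t : K) (τ : K ≃+* K) (δ : MulAut (Qb K)), d ∈ D ∧ IsTor d s t τ ∧ IsR d δ ∧
      g = tau r * pi h.hyp h.odd δ := by
  obtain ⟨γ, hγ, rfl⟩ := hg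
  have h1 : NormAut ⊤ γ := by
    intro x hx
    have h2 := hn _ (pi_mem_TG h.hyp h.odd hx)
    rw [← map_inv, ← map_mul, ← map_mul] at h2
    exact (h.mem_aut_iff (mul_mem (mul_mem hγ (h.par.indu hx)) (inv_mem hγ))).1 h2
  obtain ⟨x, d, hd, hx⟩ := h.par.norm γ hγ h1
  rcases (h.grp h.hyp).2.2.2.2.1 d (h.par.D_le hd) with ⟨s, t, τ, hdt⟩ | ⟨s, t, τ, α', ρ, hα', hρ, hdr⟩
  · obtain ⟨δ, hδ⟩ := exists_restr d hdt
    refine ⟨x.b, d, s, t, τ, δ, hd, hdt, hδ, ?_⟩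
    obtain ⟨c, -, hc⟩ := exists_conj_aut x
    rw [← pi_conj h.hyp h.odd hc, ← map_mul]
    congr 1
    ext1 e
    apply Subtype.ext
    rw [MulAut.mul_apply, hc, hδ, hx]
  · exfalso
    have h2 := hx (el 1 0 0 0 0)
    have h3 := congrArg GU.b h2
    rw [b_Qb, hdr, MulAut.mul_apply, GU.mul_b, GU.mul_b, GU.inv_b, hα'.b, hρ.b, el_a, one_pow, map_one] at h3
    apply hα'.ne2
    linear_combination -h3

/-- the diagonal elements -/
theorem diag_step {ψ : K →+ K}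
    (h1 : ∀ M : Matrix.SpecialLinearGroup (Fin 2) K, ∃ l ∈ LG (Γ.map (pi h.hyp h.odd)), ∀ u,
      sh ψ (l u) = ml (M : Matrix (Fin 2) (Fin 2) K) (sh ψ u)) {t : K} (ht : t ≠ 0) :
    (∃ d ∈ D, IsTor d t⁻¹ (t ^ 2) (RingEquiv.refl K)) ∧ ∃ r : K, ∀ u : K, r * (t⁻¹ * u) + ψ (t⁻¹ * u) = t * ψ u := by
  have hH := h.core
  obtain ⟨l, hl, hM⟩ := h1 ⟨!![t, 0; 0, t⁻¹], by rw [Matrix.det_fin_two_of, mul_inv_cancel₀ ht]; ring⟩
  have hM' : ∀ u, sh ψ (l u) = (t * (sh ψ u).1, t⁻¹ * (sh ψ u).2) := by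
    intro u
    rw [hM]
    apply Prod.ext
    · show t * _ + 0 * _ = _
      ring
    · show 0 * _ + t⁻¹ * _ = _
      ring
  have hinj : ∀ u v, sh ψ u = sh ψ v → u = v := by
    intro u v huv
    have e2' : (sh ψ u).2 = (sh ψ v).2 := by rw [huv]
    have e1' : (sh ψ u).1 = (sh ψ v).1 := by rw [huv]
    have e2 : u.2 = v.2 := e2'
    have e1 : u.1 + ψ u.2 = v.1 + ψ v.2 := e1'
    rw [e2] at e1
    exact Prod.ext (add_right_cancel e1) e2
  have htau : ∀ r u, sh ψ (tau r u) = tau r (sh ψ u) := by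
    intro r u
    apply Prod.ext
    · show u.1 + r * u.2 + ψ u.2 = u.1 + ψ u.2 + r * u.2
      ring
    · rfl
  have hn : ∀ s ∈ TG K, l * s * l⁻¹ ∈ TG K := by
    rintro _ ⟨r, rfl⟩
    refine ⟨t * r * t, ?_⟩
    rw [mul_inv_eq_iff_eq_mul]
    apply Cfsg.Agent.H7.PU.Core.ext'
    intro u
    rw [LinearEquiv.mul_apply, LinearEquiv.mul_apply]
    apply hinj
    rw [hM', htau, htau, hM']
    apply Prod.ext
    · show t * ((sh ψ u).1 + r * (sh ψ u).2) = t * (sh ψ u).1 + t * r * t * (t⁻¹ * (sh ψ u).2)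
      field_simp
    · rfl
  obtain ⟨r, d, s, t', τ, δ, hd, hdt, hδ, hlr⟩ := h.norm_form (LG_le hH.le hl) hn
  have hlu : ∀ u : K × K, l u = (s * t' * τ u.1 + r * (s * τ u.2), s * τ u.2) := by
    intro u
    rw [hlr, LinearEquiv.mul_apply, pi_tor h.hyp h.odd hdt hδ, tau_apply]
  have hx1 : ∀ x, s * t' * τ x = t * x := by
    intro x
    have h2 := congrArg Prod.fst (hM' (x, 0))
    rw [hlu] at h2
    simp only [sh, map_zero, mul_zero, add_zero] at h2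
    exact h2
  have hx2 : ∀ x, s * τ x = t⁻¹ * x := by
    intro x
    have h2 := congrArg Prod.snd (hM' (0, x))
    rw [hlu] at h2
    exact h2
  have ex2 : s = t⁻¹ := by
    have := hx2 1
    rwa [map_one, mul_one, mul_one] at this
  have ex1 : t' = t ^ 2 := by
    have := hx1 1
    rw [map_one, mul_one, mul_one, ex2] at this
    field_simp at this
    exact this
  have eτ : τ = RingEquiv.refl K := by
    ext x
    have := hx2 x
    rw [ex2] at this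
    exact mul_left_cancel₀ (inv_ne_zero ht) this
  rw [ex1, ex2, eτ] at hdt
  refine ⟨⟨d, hd, hdt⟩, r, fun u => ?_⟩
  have h2 := congrArg Prod.fst (hM' (0, u))
  rw [hlu] at h2
  simp only [sh, map_zero, mul_zero, zero_add, hx2] at h2
  exact h2

/-- **The image of `Γ` contains `SL₂(K)`.** -/
theorem main1 :
    (∀ M : Matrix.SpecialLinearGroup (Fin 2) K, ∃ l ∈ LG (Γ.map (pi h.hyp h.odd)), ∀ u, l u = ml (M : Matrix (Fin 2) (Fin 2) K) u) ∧
    (∀ l ∈ LG (Γ.map (pi h.hyp h.odd)), ∃ M : Matrix.SpecialLinearGroup (Fin 2) K, ∀ u, l u = ml (M : Matrix (Fin 2) (Fin 2) K) u) ∧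
    HasTor D (fun t => t⁻¹) (fun t => t ^ 2) := by
  have hH := h.core
  have := h.hyp.fin
  obtain ⟨ψ, h1, h2⟩ := hH.exists_shear
  obtain ⟨k, hk⟩ := Cfsg.Agent.H7.PU.Shear.lin1 (by rw [h.hyp.card]; exact h.five) ψ (fun t ht => (h.diag_step h1 ht).2)
  obtain ⟨h3, h4⟩ := Cfsg.Agent.H7.PU.Shear.exact hk h1 h2
  refine ⟨h3, h4, ?_⟩
  intro t ht α hα
  obtain ⟨⟨d, hd, hdt⟩, -⟩ := h.diag_step h1 ht
  rw [IsTor_unique hα hdt]
  exact hd

theorem hasTor : HasTor D (fun t => t⁻¹) (fun t => t ^ 2) := h.main1.2.2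

/-- every element of `SL₂(K)` is the image of an element of `Γ` -/
theorem exists_lift (M : Matrix.SpecialLinearGroup (Fin 2) K) :
    ∃ γ ∈ Γ, ∀ u, pi h.hyp h.odd γ u = ml (M : Matrix (Fin 2) (Fin 2) K) u := by
  obtain ⟨l, hl, hlu⟩ := h.main1.1 M
  obtain ⟨γ, hγ, hγl⟩ := LG_le h.core.le hl
  exact ⟨γ, hγ, fun u => by rw [hγl, hlu]⟩

/-- **`Γ = Gen`, as soon as the Weyl element is in `Γ`.** -/
theorem eq_Gen {w : MulAut (Qb K)} (hw : IsWb w) (hwG : w ∈ Γ) : Γ = Gen IsWb D := by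
  have hH := h.core
  obtain ⟨h3, h4, -⟩ := h.main1
  have hAG : autInducedBy ⊤ (Qb K) ≤ Gen IsWb D := fun x hx => Subgroup.subset_closure (Or.inl (Or.inl hx))
  have hwL : w ∈ Gen IsWb D := Subgroup.subset_closure (Or.inl (Or.inr hw))
  have hle : Gen IsWb D ≤ Γ := by
    refine (Subgroup.closure_le _).2 ?_
    rintro x ((hx | hx) | ⟨d, hd, hx⟩)
    · exact h.par.indu hx
    · rw [IsWb_unique hx hw]
      exact hwG
    · exact h.par.D_res d hd x hx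
  apply le_antisymm _ hle
  intro γ hγ
  obtain ⟨g, hg⟩ : ∃ g, g = pi h.hyp h.odd γ := ⟨_, rfl⟩
  have hgG : g ∈ Γ.map (pi h.hyp h.odd) := ⟨γ, hγ, hg.symm⟩
  -- move the fixed vector
  have hv0 : g (1, 0) ≠ 0 := by
    intro h5
    have h6 : g (1, 0) = g 0 := by rw [h5, map_zero]
    have h7 := congrArg Prod.fst (g.injective h6)
    exact one_ne_zero h7
  obtain ⟨N, hN⟩ := Hyp.exists_to_one (F := K) (w := ![(g (1, 0)).1, (g (1, 0)).2]) (by
    intro h5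
    apply hv0
    exact Prod.ext (congrFun h5 0) (congrFun h5 1))
  obtain ⟨l, hl, hlN⟩ := h3 N
  have hlv : l (g (1, 0)) = (1, 0) := by
    rw [hlN]
    have e0 := congrFun hN 0
    have e1 := congrFun hN 1
    simp only [Matrix.mulVec, dotProduct, Fin.sum_univ_two, Matrix.cons_val_zero, Matrix.cons_val_one,
      Matrix.cons_val_fin_one] at e0 e1
    exact Prod.ext e0 e1
  have hn : ∀ t ∈ TG K, (l * g) * t * (l * g)⁻¹ ∈ TG K := by
    rintro _ ⟨r, rfl⟩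
    have h5 : l * g * tau r * (l * g)⁻¹ ∈ LG (Γ.map (pi h.hyp h.odd)) := by
      have h6 : l * g * tau r * (l * g)⁻¹ = l * (g * tau r * g⁻¹) * l⁻¹ := by group
      rw [h6]
      exact mul_mem (mul_mem hl (conj_mem_LG hgG (tau_mem r))) (inv_mem hl)
    obtain ⟨M, hM⟩ := h4 _ h5
    have h6 : (l * g)⁻¹ (1, 0) = (1, 0) := by
      apply (l * g).injective
      rw [ai, LinearEquiv.mul_apply, hlv]
    have h7 := hM (1, 0)
    rw [LinearEquiv.mul_apply, LinearEquiv.mul_apply, h6, tau_apply, mul_zero, add_zero, LinearEquiv.mul_apply,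
      hlv] at h7
    have e0 : (M : Matrix (Fin 2) (Fin 2) K) 0 0 = 1 := by
      have := congrArg Prod.fst h7
      simp only [ml] at this
      simpa using this.symm
    have e1 : (M : Matrix (Fin 2) (Fin 2) K) 1 0 = 0 := by
      have := congrArg Prod.snd h7
      simp only [ml] at this
      simpa using this.symm
    have hdet := M.det_coe
    rw [Matrix.det_fin_two, e0, e1, one_mul, mul_zero, sub_zero] at hdet
    refine ⟨(M : Matrix (Fin 2) (Fin 2) K) 0 1, ?_⟩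
    apply Cfsg.Agent.H7.PU.Core.ext'
    intro u
    rw [hM, tau_apply, ml, e0, e1, hdet, one_mul, zero_mul, zero_add, one_mul]
  obtain ⟨r, d, s, t, τ, δ, hd, hdt, hδ, hlg⟩ := h.norm_form (mul_mem (LG_le hH.le hl) hgG) hn
  have h5 : l⁻¹ * tau r ∈ LG (Γ.map (pi h.hyp h.odd)) := mul_mem (inv_mem hl) (TG_le_LG _ (tau_mem r))
  obtain ⟨M, hM⟩ := h4 _ h5
  obtain ⟨lam, hlam, hlamM⟩ := gen h.hyp h.odd hAG hw hwL M
  have h6 : pi h.hyp h.odd lam = l⁻¹ * tau r := by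
    apply Cfsg.Agent.H7.PU.Core.ext'
    intro u
    rw [hlamM, hM]
  have h7 : pi h.hyp h.odd γ = pi h.hyp h.odd (lam * δ) := by
    rw [map_mul, h6, mul_assoc, ← hlg, ← hg]
    group
  have hδG : δ ∈ Gen IsWb D := Subgroup.subset_closure (Or.inr ⟨d, hd, hδ⟩)
  have hm : lam * δ ∈ Gen IsWb D := mul_mem hlam hδG
  have h8 : γ * (lam * δ)⁻¹ ∈ Inn (Qb K) := by
    apply h.ker' (mul_mem hγ (inv_mem (hle hm)))
    rw [map_mul, map_inv, h7, mul_inv_cancel]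
  have h9 := mul_mem (hAG (Inn_le h8)) hm
  rwa [inv_mul_cancel_right] at h9

end LbH

end Cfsg.Agent.H904.GT
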