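import Cfsg.Agent.H779.G2.Stmts2
import Cfsg.Agent.H7.PU.Shear

/-!
# S5211, the long root parabolic, `p` odd: the action on `Q_b / Z₃ = K × K` (helper904)

Coordinates `uu g = (c, a)`; conjugation by `x` is `tau x.b`.
-/

set_option autoImplicit false
set_option linter.unusedSectionVars false

namespace Cfsg.Agent.H904.GT

open Cfsg Cfsg.FusionSystem Cfsg.Agent.H756.PU Cfsg.Agent.H7.PU.Core Cfsg.Agent.H779.G2
open Cfsg.Agent.H802 (exists_conjAut mem_autInducedBy_iff)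

universe u

variable {K : Type u} [Field K] {p n : ℕ}

/-- coordinates -/
def uu (x : GU K) : K × K := (x.c, x.a)

theorem b_Qb (e : Qb K) : (e : GU K).b = 0 := e.2

theorem mul_a' (e e' : Qb K) : ((e * e' : Qb K) : GU K).a = (e : GU K).a + (e' : GU K).a := rfl

theorem mul_c' (e e' : Qb K) : ((e * e' : Qb K) : GU K).c = (e : GU K).c + (e' : GU K).c := by
  have h1 : ((e * e' : Qb K) : GU K) = (e : GU K) * (e' : GU K) := rfl
  rw [h1, GU.mul_c, b_Qb]
  ring

theorem mul_d' (e e' : Qb K) : ((e * e' : Qb K) : GU K).d =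
    (e : GU K).d + (e' : GU K).d + 2 * (e : GU K).c * (e' : GU K).a := by
  have h1 : ((e * e' : Qb K) : GU K) = (e : GU K) * (e' : GU K) := rfl
  rw [h1, GU.mul_d, b_Qb]
  ring

theorem mul_e' (e e' : Qb K) : ((e * e' : Qb K) : GU K).e =
    (e : GU K).e + (e' : GU K).e + 3 * (e : GU K).d * (e' : GU K).a + 3 * (e : GU K).c * (e' : GU K).a ^ 2 := by
  have h1 : ((e * e' : Qb K) : GU K) = (e : GU K) * (e' : GU K) := rfl
  rw [h1, GU.mul_e, b_Qb]
  ring

theorem mul_f' (e e' : Qb K) : ((e * e' : Qb K) : GU K).f =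
    (e : GU K).f + (e' : GU K).f + 3 * (e : GU K).d * (e' : GU K).c + 6 * (e : GU K).c * (e' : GU K).a * (e' : GU K).c
      + 3 * (e : GU K).c ^ 2 * (e' : GU K).a := by
  have h1 : ((e * e' : Qb K) : GU K) = (e : GU K) * (e' : GU K) := rfl
  rw [h1, GU.mul_f, b_Qb, b_Qb]
  ring

theorem ext' {e e' : Qb K} (ha : (e : GU K).a = (e' : GU K).a) (hc : (e : GU K).c = (e' : GU K).c)
    (hd : (e : GU K).d = (e' : GU K).d) (he : (e : GU K).e = (e' : GU K).e) (hf : (e : GU K).f = (e' : GU K).f) : e = e' :=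
  Subtype.ext (GU.ext ha (by rw [b_Qb, b_Qb]) hc hd he hf)

theorem one_uu : uu ((1 : Qb K) : GU K) = 0 := rfl

theorem uu_mul (e e' : Qb K) : uu ((e * e' : Qb K) : GU K) = uu (e : GU K) + uu (e' : GU K) :=
  Prod.ext (mul_c' e e') (mul_a' e e')

theorem uu_inv (e : Qb K) : uu ((e⁻¹ : Qb K) : GU K) = - uu (e : GU K) := by
  have h1 := uu_mul e⁻¹ e
  rw [inv_mul_cancel] at h1
  exact eq_neg_of_add_eq_zero_left h1.symm

theorem uu_zero_iff (e : Qb K) : uu (e : GU K) = 0 ↔ (e : GU K).a = 0 ∧ (e : GU K).c = 0 := by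
  constructor
  · intro h1
    exact ⟨congrArg Prod.snd h1, congrArg Prod.fst h1⟩
  · rintro ⟨h1, h2⟩
    exact Prod.ext h2 h1

/-- an element of `Q_b` with given coordinates -/
def el (a c d e f : K) : Qb K := ⟨⟨a, 0, c, d, e, f⟩, rfl⟩

theorem el_a (a c d e f : K) : (el a c d e f : GU K).a = a := rfl
theorem el_c (a c d e f : K) : (el a c d e f : GU K).c = c := rfl
theorem el_d (a c d e f : K) : (el a c d e f : GU K).d = d := rfl
theorem el_e (a c d e f : K) : (el a c d e f : GU K).e = e := rfl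
theorem el_f (a c d e f : K) : (el a c d e f : GU K).f = f := rfl

/-- the commutators -/
theorem comm (x y : Qb K) : uu ((x * y * x⁻¹ * y⁻¹ : Qb K) : GU K) = 0 ∧
    ((x * y * x⁻¹ * y⁻¹ : Qb K) : GU K).d =
      2 * ((x : GU K).c * (y : GU K).a - (y : GU K).c * (x : GU K).a) := by
  obtain ⟨z, hz⟩ : ∃ z, z = x * y * x⁻¹ * y⁻¹ := ⟨_, rfl⟩
  have hz0 : uu (z : GU K) = 0 := by
    rw [hz, uu_mul, uu_mul, uu_mul, uu_inv, uu_inv]
    abel
  obtain ⟨hz1, hz2⟩ := (uu_zero_iff z).1 hz0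
  have hxy : x * y = z * (y * x) := by rw [hz]; group
  have ed := congrArg (fun w : Qb K => (w : GU K).d) hxy
  simp only [mul_d', mul_a', hz2] at ed
  rw [← hz]
  exact ⟨hz0, by linear_combination -ed⟩

theorem two_ne (h : HypG K p n) (h2 : p ≠ 2) : (2 : K) ≠ 0 := by
  have := h.char
  intro h3
  have h4 : ((2 : ℕ) : K) = 0 := by exact_mod_cast h3
  rw [CharP.cast_eq_zero_iff K p] at h4
  exact h2 ((Nat.prime_dvd_prime_iff_eq h.pp Nat.prime_two).1 h4)

theorem three_ne (h : HypG K p n) (h3 : p ≠ 3) : (3 : K) ≠ 0 := by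
  have := h.char
  intro h5
  have h4 : ((3 : ℕ) : K) = 0 := by exact_mod_cast h5
  rw [CharP.cast_eq_zero_iff K p] at h4
  exact h3 ((Nat.prime_dvd_prime_iff_eq h.pp Nat.prime_three).1 h4)

theorem three_eq (h : HypG K p n) (h3 : p = 3) : (3 : K) = 0 := by
  have := h.char
  subst h3
  have := CharP.cast_eq_zero K 3
  exact_mod_cast this

/-- central elements, `p = 3` -/
theorem central_iff3 (h2 : (2 : K) ≠ 0) (h3 : (3 : K) = 0) (e : Qb K) :
    (∀ y : Qb K, e * y = y * e) ↔ uu (e : GU K) = 0 := by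
  constructor
  · intro hc
    have h1 : ∀ y : Qb K, 2 * ((e : GU K).c * (y : GU K).a - (y : GU K).c * (e : GU K).a) = 0 := by
      intro y
      rw [← (comm e y).2]
      have : e * y * e⁻¹ * y⁻¹ = 1 := by rw [hc y]; group
      rw [this]
      rfl
    have h4 := h1 (el 1 0 0 0 0)
    have h5 := h1 (el 0 1 0 0 0)
    simp only [el_a, el_c] at h4 h5
    rw [uu_zero_iff]
    constructor
    · have : 2 * (e : GU K).a = 0 := by linear_combination -h5
      exact (mul_eq_zero.1 this).resolve_left h2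
    · have : 2 * (e : GU K).c = 0 := by linear_combination h4
      exact (mul_eq_zero.1 this).resolve_left h2
  · intro h0 y
    obtain ⟨h4, h5⟩ := (uu_zero_iff e).1 h0
    apply ext'
    · rw [mul_a', mul_a', add_comm]
    · rw [mul_c', mul_c', add_comm]
    · rw [mul_d', mul_d', h4, h5]; ring
    · rw [mul_e', mul_e', h4, h5, h3]; ring
    · rw [mul_f', mul_f', h4, h5]
      linear_combination ((e : GU K).d * (y : GU K).c) * h3

/-- central elements, `p ≠ 3` -/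
theorem central_iff5 (h2 : (2 : K) ≠ 0) (h3 : (3 : K) ≠ 0) (e : Qb K) :
    (∀ y : Qb K, e * y = y * e) ↔ uu (e : GU K) = 0 ∧ (e : GU K).d = 0 := by
  constructor
  · intro hc
    have h1 : ∀ y : Qb K, 2 * ((e : GU K).c * (y : GU K).a - (y : GU K).c * (e : GU K).a) = 0 := by
      intro y
      rw [← (comm e y).2]
      have : e * y * e⁻¹ * y⁻¹ = 1 := by rw [hc y]; group
      rw [this]
      rfl
    have h4 := h1 (el 1 0 0 0 0)
    have h5 := h1 (el 0 1 0 0 0)
    simp only [el_a, el_c] at h4 h5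
    have ha : (e : GU K).a = 0 := by
      have : 2 * (e : GU K).a = 0 := by linear_combination -h5
      exact (mul_eq_zero.1 this).resolve_left h2
    have hc' : (e : GU K).c = 0 := by
      have : 2 * (e : GU K).c = 0 := by linear_combination h4
      exact (mul_eq_zero.1 this).resolve_left h2
    refine ⟨(uu_zero_iff e).2 ⟨ha, hc'⟩, ?_⟩
    have h6 := congrArg (fun w : Qb K => (w : GU K).e) (hc (el 1 0 0 0 0))
    simp only [mul_e', el_a, el_c, el_d, el_e, ha, hc'] at h6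
    have : 3 * (e : GU K).d = 0 := by linear_combination h6
    exact (mul_eq_zero.1 this).resolve_left h3
  · rintro ⟨h0, h6⟩ y
    obtain ⟨h4, h5⟩ := (uu_zero_iff e).1 h0
    apply ext'
    · rw [mul_a', mul_a', add_comm]
    · rw [mul_c', mul_c', add_comm]
    · rw [mul_d', mul_d', h4, h5]; ring
    · rw [mul_e', mul_e', h4, h5, h6]; ring
    · rw [mul_f', mul_f', h4, h5, h6]; ring

/-- central elements modulo the centre, `p ≠ 3` -/
theorem central2_iff5 (h2 : (2 : K) ≠ 0) (h3 : (3 : K) ≠ 0) (e : Qb K) :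
    (∀ y z : Qb K, (e * y * e⁻¹ * y⁻¹) * z = z * (e * y * e⁻¹ * y⁻¹)) ↔ uu (e : GU K) = 0 := by
  constructor
  · intro hc
    have h1 : ∀ y : Qb K, 2 * ((e : GU K).c * (y : GU K).a - (y : GU K).c * (e : GU K).a) = 0 := by
      intro y
      rw [← (comm e y).2]
      exact ((central_iff5 h2 h3 _).1 (hc y)).2
    have h4 := h1 (el 1 0 0 0 0)
    have h5 := h1 (el 0 1 0 0 0)
    simp only [el_a, el_c] at h4 h5
    rw [uu_zero_iff]
    constructor
    · have : 2 * (e : GU K).a = 0 := by linear_combination -h5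
      exact (mul_eq_zero.1 this).resolve_left h2
    · have : 2 * (e : GU K).c = 0 := by linear_combination h4
      exact (mul_eq_zero.1 this).resolve_left h2
  · intro h0 y
    rw [central_iff5 h2 h3]
    refine ⟨(comm e y).1, ?_⟩
    obtain ⟨h4, h5⟩ := (uu_zero_iff e).1 h0
    rw [(comm e y).2, h4, h5]
    ring

/-- `Z₃` is invariant under all automorphisms of `Q_b` -/
theorem inv_Z3 (h : HypG K p n) (h2 : p ≠ 2) (γ : MulAut (Qb K)) {e : Qb K} (he : uu (e : GU K) = 0) :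
    uu ((γ e : Qb K) : GU K) = 0 := by
  have h2' := two_ne h h2
  by_cases h3 : p = 3
  · have h3' := three_eq h h3
    rw [← central_iff3 h2' h3'] at he ⊢
    intro y
    obtain ⟨z, rfl⟩ := γ.surjective y
    rw [← map_mul, he, map_mul]
  · have h3' := three_ne h h3
    rw [← central2_iff5 h2' h3'] at he ⊢
    intro y z
    obtain ⟨y, rfl⟩ := γ.surjective y
    obtain ⟨z, rfl⟩ := γ.surjective z
    rw [← map_inv, ← map_inv, ← map_mul, ← map_mul, ← map_mul, ← map_mul, he, map_mul]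

section Pi

variable (h : HypG K p n) (h2 : p ≠ 2)
include h h2

omit h h2 in
/-- a section -/
theorem uu_el (u : K × K) (d e f : K) : uu (el u.2 u.1 d e f : GU K) = u := rfl

omit h h2 in
/-- the induced map -/
def fn (γ : MulAut (Qb K)) (u : K × K) : K × K := uu ((γ (el u.2 u.1 0 0 0) : Qb K) : GU K)

theorem fn_uu (γ : MulAut (Qb K)) (e : Qb K) : fn γ (uu (e : GU K)) = uu ((γ e : Qb K) : GU K) := by
  have h1 : uu (((el (uu (e : GU K)).2 (uu (e : GU K)).1 0 0 0)⁻¹ * e : Qb K) : GU K) = 0 := by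
    rw [uu_mul, uu_inv, uu_el, neg_add_cancel]
  have h3 := inv_Z3 h h2 γ h1
  rw [map_mul, map_inv, uu_mul, uu_inv, neg_add_eq_zero] at h3
  exact h3

theorem fn_mul (γ γ' : MulAut (Qb K)) (u : K × K) : fn (γ * γ') u = fn γ (fn γ' u) := by
  conv_lhs => rw [← uu_el u 0 0 0]
  conv_rhs => rw [← uu_el u 0 0 0]
  rw [fn_uu h h2, fn_uu h h2, fn_uu h h2]
  rfl

theorem fn_one (u : K × K) : fn 1 u = u := rfl

theorem fn_add (γ : MulAut (Qb K)) (u v : K × K) : fn γ (u + v) = fn γ u + fn γ v := by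
  conv_lhs => rw [← uu_el u 0 0 0, ← uu_el v 0 0 0, ← uu_mul]
  conv_rhs => rw [← uu_el u 0 0 0, ← uu_el v 0 0 0]
  rw [fn_uu h h2, fn_uu h h2, fn_uu h h2, map_mul, uu_mul]

/-- **The action on `Q_b / Z₃`.** -/
def pi : MulAut (Qb K) →* A2 K where
  toFun γ := mk
    { toFun := fn γ
      invFun := fn γ⁻¹
      left_inv := fun u => by rw [← fn_mul h h2, inv_mul_cancel]; rfl
      right_inv := fun u => by rw [← fn_mul h h2, mul_inv_cancel]; rfl
      map_add' := fn_add h h2 γ }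
  map_one' := Cfsg.Agent.H7.PU.Core.ext' fun u => rfl
  map_mul' γ γ' := Cfsg.Agent.H7.PU.Core.ext' fun u => fn_mul h h2 γ γ' u

theorem pi_uu (γ : MulAut (Qb K)) (e : Qb K) : pi h h2 γ (uu (e : GU K)) = uu ((γ e : Qb K) : GU K) := fn_uu h h2 γ e

theorem pi_ext {γ : MulAut (Qb K)} {g : A2 K} (hg : ∀ e : Qb K, g (uu (e : GU K)) = uu ((γ e : Qb K) : GU K)) :
    pi h h2 γ = g := by
  apply Cfsg.Agent.H7.PU.Core.ext'
  intro u
  rw [← uu_el u 0 0 0, pi_uu, hg]

theorem pi_eq_one_iff {γ : MulAut (Qb K)} : pi h h2 γ = 1 ↔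
    ∀ g : Qb K, ((γ g : Qb K) : GU K).a = (g : GU K).a ∧ ((γ g : Qb K) : GU K).c = (g : GU K).c := by
  constructor
  · intro h1 g
    have h3 := pi_uu h h2 γ g
    rw [h1] at h3
    exact ⟨(congrArg Prod.snd h3).symm, (congrArg Prod.fst h3).symm⟩
  · intro h1
    apply pi_ext
    intro e
    exact Prod.ext (h1 e).2.symm (h1 e).1.symm

theorem pi_conj {γ : MulAut (Qb K)} {x : GU K} (hx : ∀ e : Qb K, ((γ e : Qb K) : GU K) = x * e * x⁻¹) :
    pi h h2 γ = tau x.b := by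
  apply pi_ext
  intro e
  rw [hx, tau_apply]
  apply Prod.ext
  · simp only [uu, GU.mul_c, GU.mul_a, GU.mul_b, GU.inv_a, GU.inv_c, b_Qb]
    ring
  · simp only [uu, GU.mul_a, GU.inv_a]
    ring

theorem pi_tor {δ : MulAut (Qb K)} {d : MulAut (GU K)} {s t : K} {τ : K ≃+* K} (hd : IsTor d s t τ) (hδ : IsR d δ)
    (u : K × K) : pi h h2 δ u = (s * t * τ u.1, s * τ u.2) := by
  rw [← uu_el u 0 0 0, pi_uu, hδ]
  exact Prod.ext (hd.c _) (hd.a _)

theorem pi_wb {γ : MulAut (Qb K)} (hγ : IsWb γ) (u : K × K) : pi h h2 γ u = (u.2, - u.1) := by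
  rw [← uu_el u 0 0 0, pi_uu]
  exact Prod.ext (hγ.c _) (hγ.a _)

omit h h2 in
/-- conjugation on `Q_b` -/
theorem exists_conj (x : GU K) : ∃ γ : MulAut (Qb K), ∀ e : Qb K, ((γ e : Qb K) : GU K) = x * e * x⁻¹ := by
  apply exists_conjAut
  rw [Subgroup.mem_normalizer_iff]
  intro g
  show g.b = 0 ↔ (x * g * x⁻¹).b = 0
  rw [GU.mul_b, GU.mul_b, GU.inv_b]
  constructor
  · intro h1; rw [h1]; ring
  · intro h1; linear_combination h1

omit h h2 in
theorem exists_conj_aut (x : GU K) : ∃ γ ∈ autInducedBy ⊤ (Qb K), ∀ e : Qb K, ((γ e : Qb K) : GU K) = x * e * x⁻¹ := by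
  obtain ⟨γ, hγ⟩ := exists_conj x
  exact ⟨γ, (mem_autInducedBy_iff _ _ _).2 ⟨x, Subgroup.mem_top x, hγ⟩, hγ⟩

theorem pi_mem_TG {γ : MulAut (Qb K)} (hγ : γ ∈ autInducedBy ⊤ (Qb K)) : pi h h2 γ ∈ TG K := by
  obtain ⟨x, -, hx⟩ := (mem_autInducedBy_iff _ _ _).1 hγ
  rw [pi_conj h h2 hx]
  exact tau_mem _

theorem exists_of_mem_TG {g : A2 K} (hg : g ∈ TG K) : ∃ γ ∈ autInducedBy ⊤ (Qb K), pi h h2 γ = g := by
  obtain ⟨r, rfl⟩ := hg
  obtain ⟨γ, hγ, hx⟩ := exists_conj_aut (⟨0, r, 0, 0, 0, 0⟩ : GU K)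
  exact ⟨γ, hγ, pi_conj h h2 hx⟩

omit h h2 in
theorem Inn_le : Inn (Qb K) ≤ autInducedBy ⊤ (Qb K) := by
  rintro _ ⟨x, rfl⟩
  exact (mem_autInducedBy_iff _ _ _).2 ⟨x, Subgroup.mem_top _, fun e => rfl⟩

end Pi

end Cfsg.Agent.H904.GT
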